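import Groth.Agent.SpreadInj.Model
import Groth.Agent.S0448
import Mathlib.RingTheory.Localization.BaseChange
import Mathlib.RingTheory.Flat.Stability

/-! Injectivity on all fibres of a map from a projective to a flat module is universal injectivity. -/

set_option autoImplicit false
set_option backward.isDefEq.respectTransparency false
set_option backward.isDefEq.respectTransparency.types false
attribute [-instance] CategoryTheory.catToReflQuiver

universe u

open TensorProduct

namespace Groth.Agent.SpreadInj

theorem ui_of_fibres {R M M' : Type u} [CommRing R] [AddCommGroup M] [Module R M] [Module.Projective R M]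
    [AddCommGroup M'] [Module R M'] [Module.Flat R M'] (φ : M →ₗ[R] M')
    (h : ∀ (q : Ideal R) [q.IsPrime], Function.Injective (φ.lTensor q.ResidueField))
    (Q : Type u) [AddCommGroup Q] [Module R Q] : Function.Injective (φ.rTensor Q) := by
  rw [injective_iff_map_eq_zero]
  intro z hz
  by_contra hz0
  have hne : LinearMap.ker (LinearMap.toSpanSingleton R (M ⊗[R] Q) z) ≠ ⊤ := fun htop => hz0 (by
    have h1 : (1 : R) ∈ LinearMap.ker (LinearMap.toSpanSingleton R (M ⊗[R] Q) z) := htop ▸ Submodule.mem_top
    simpa using h1)
  obtain ⟨q, hq, hle⟩ := Ideal.exists_le_maximal _ hne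
  haveI := hq
  let A := Localization.AtPrime q
  have hres : Function.Injective ((φ.baseChange A).lTensor (IsLocalRing.ResidueField A)) := by
    rw [injective_baseChange_iff]
    exact h q
  have hinj := Groth.Agent.S0448.result (φ.baseChange A) hres (A ⊗[R] Q)
  let d := TensorProduct.AlgebraTensorModule.distribBaseChange R A M Q
  let d' := TensorProduct.AlgebraTensorModule.distribBaseChange R A M' Q
  have hc : ∀ w, (φ.baseChange A).rTensor (A ⊗[R] Q) (d w) = d' ((φ.rTensor Q).baseChange A w) := fun w => by
    induction w using TensorProduct.induction_on with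
    | zero => simp
    | add x y hx hy => simp only [map_add, hx, hy]
    | tmul a b =>
      induction b using TensorProduct.induction_on with
      | zero => simp
      | add x y hx hy => simp only [TensorProduct.tmul_add, map_add, hx, hy]
      | tmul m x => simp [d, d']
  have h0 : TensorProduct.mk R A (M ⊗[R] Q) 1 z = 0 := by
    refine d.injective (hinj ?_)
    rw [hc, map_zero, map_zero, TensorProduct.mk_apply, LinearMap.baseChange_tmul, hz, TensorProduct.tmul_zero, map_zero]
  haveI : IsLocalizedModule q.primeCompl (TensorProduct.mk R A (M ⊗[R] Q) 1) :=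
    (isLocalizedModule_iff_isBaseChange q.primeCompl A _).2 (TensorProduct.isBaseChange R (M ⊗[R] Q) A)
  obtain ⟨⟨s, hs⟩, hsz⟩ := (IsLocalizedModule.eq_zero_iff q.primeCompl (TensorProduct.mk R A (M ⊗[R] Q) 1)).1 h0
  exact hs (hle (show s ∈ LinearMap.ker (LinearMap.toSpanSingleton R (M ⊗[R] Q) z) from hsz))

end Groth.Agent.SpreadInj
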