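import Groth.Agent.SpreadInj.Main
import Mathlib.RingTheory.TensorProduct.MvPolynomial
import Mathlib.RingTheory.FinitePresentation

/-! Fibrewise injectivity spreads out, over an arbitrary base. -/

set_option autoImplicit false
set_option backward.isDefEq.respectTransparency false
set_option backward.isDefEq.respectTransparency.types false
attribute [-instance] CategoryTheory.catToReflQuiver

universe u

open TensorProduct

namespace Groth.Agent.SpreadInj

/-- A quotient of a free module by relations from a smaller ring is a base change. -/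
theorem exists_model_module {T P : Type u} [CommRing T] [CommRing P] [Algebra T P] {a : ℕ} {M : Type u}
    [AddCommGroup M] [Module P M] [Module T M] [IsScalarTower T P M] (π : (Fin a → P) →ₗ[P] M)
    (hπ : Function.Surjective π) (G : Set (Fin a → P)) (hG : Submodule.span P G = LinearMap.ker π)
    (K : Submodule T (Fin a → T)) (hK : ∀ v ∈ G, ∃ w ∈ K, (fun i => algebraMap T P (w i)) = v)
    (hK' : ∀ w ∈ K, π (fun i => algebraMap T P (w i)) = 0) :
    ∃ h : ((Fin a → T) ⧸ K) →ₗ[T] M, IsBaseChange P h ∧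
      ∀ w, h (Submodule.Quotient.mk w) = π (fun i => algebraMap T P (w i)) := by
  classical
  let ι : (Fin a → T) →ₗ[T] (Fin a → P) := (Algebra.linearMap T P).compLeft (Fin a)
  let h₀ : (Fin a → T) →ₗ[T] M := (π.restrictScalars T).comp ι
  let h : ((Fin a → T) ⧸ K) →ₗ[T] M := K.liftQ h₀ fun w hw => hK' w hw
  refine ⟨h, ?_, fun w => rfl⟩
  let M₀ := (Fin a → T) ⧸ K
  let L := h.liftBaseChange P
  let s : (Fin a → P) →ₗ[P] P ⊗[T] M₀ :=
    Fintype.linearCombination P fun i => (1 : P) ⊗ₜ[T] (Submodule.Quotient.mk (Pi.single i 1) : M₀)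
  have hs : ∀ w : Fin a → T, s (ι w) = (1 : P) ⊗ₜ[T] (Submodule.Quotient.mk w : M₀) := fun w => by
    show Fintype.linearCombination P _ _ = _
    rw [Fintype.linearCombination_apply]
    conv_rhs => rw [pi_eq_sum_univ' w]
    rw [← Submodule.mkQ_apply, map_sum, TensorProduct.tmul_sum]
    refine Finset.sum_congr rfl fun i _ => ?_
    rw [map_smul, Submodule.mkQ_apply, TensorProduct.tmul_smul, TensorProduct.smul_tmul', TensorProduct.smul_tmul']
    simp [ι, Algebra.smul_def]
  have hker : LinearMap.ker π ≤ LinearMap.ker s := by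
    rw [← hG, Submodule.span_le]
    intro v hv
    obtain ⟨w, hw, rfl⟩ := hK v hv
    show s (ι w) = 0
    rw [hs, show (Submodule.Quotient.mk w : M₀) = 0 from (Submodule.Quotient.mk_eq_zero K).2 hw, TensorProduct.tmul_zero]
  have hL : ∀ v, L (s v) = π v := fun v => by
    show (L.comp s) v = π v
    refine LinearMap.congr_fun ((Pi.basisFun P (Fin a)).ext fun i => ?_) v
    have h1 : ι (Pi.single i 1) = Pi.single i (1 : P) := funext fun j => by
      by_cases hj : j = i
      · subst hj; simp [ι]
      · simp [ι, hj]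
    rw [Pi.basisFun_apply, LinearMap.comp_apply, ← h1, hs]
    show (h.liftBaseChange P) ((1 : P) ⊗ₜ[T] _) = _
    rw [LinearMap.liftBaseChange_tmul, one_smul]
    rfl
  have hbij : Function.Bijective L := by
    constructor
    · rw [injective_iff_map_eq_zero]
      intro z hz
      obtain ⟨v, rfl⟩ : ∃ v, s v = z := by
        refine TensorProduct.induction_on z ⟨0, map_zero s⟩ ?_ ?_
        · intro p m
          obtain ⟨w, rfl⟩ := Submodule.Quotient.mk_surjective K m
          exact ⟨p • ι w, by rw [map_smul, hs, TensorProduct.smul_tmul', smul_eq_mul, mul_one]⟩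
        · rintro _ _ ⟨v₁, rfl⟩ ⟨v₂, rfl⟩
          exact ⟨v₁ + v₂, map_add s _ _⟩
      exact hker (by rw [LinearMap.mem_ker, ← hL]; exact hz)
    · intro m
      obtain ⟨v, rfl⟩ := hπ m
      exact ⟨s v, hL v⟩
  refine IsBaseChange.of_equiv (LinearEquiv.ofBijective L hbij) fun x => ?_
  show (h.liftBaseChange P) ((1 : P) ⊗ₜ[T] x) = h x
  rw [LinearMap.liftBaseChange_tmul, one_smul]

set_option maxHeartbeats 800000 in
/-- A map of finitely presented modules comes from any subring holding finitely many given elements. -/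
theorem exists_model_map {P M M' : Type u} [CommRing P] [AddCommGroup M] [Module P M] [Module.FinitePresentation P M]
    [AddCommGroup M'] [Module P M'] [Module.FinitePresentation P M'] (φ : M →ₗ[P] M') :
    ∃ S₁ : Finset P, ∀ (T : Type u) [CommRing T] [Algebra T P], Function.Injective (algebraMap T P) →
      (∀ x ∈ S₁, ∃ y, algebraMap T P y = x) → ∀ [Module T M] [IsScalarTower T P M] [Module T M'] [IsScalarTower T P M'],
      ∃ (M₀ M₀' : Type u) (_ : AddCommGroup M₀) (_ : Module T M₀) (_ : AddCommGroup M₀') (_ : Module T M₀')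
        (h₁ : M₀ →ₗ[T] M) (h₂ : M₀' →ₗ[T] M') (φ₀ : M₀ →ₗ[T] M₀'),
        Module.Finite T M₀ ∧ Module.Finite T M₀' ∧ IsBaseChange P h₁ ∧ IsBaseChange P h₂ ∧ ∀ x, h₂ (φ₀ x) = φ (h₁ x) := by
  classical
  obtain ⟨a, π, hπ⟩ := Module.Finite.exists_fin' P M
  obtain ⟨G, hG⟩ := Module.FinitePresentation.fg_ker π hπ
  obtain ⟨a', π', hπ'⟩ := Module.Finite.exists_fin' P M'
  obtain ⟨G', hG'⟩ := Module.FinitePresentation.fg_ker π' hπ'
  obtain ⟨F, hF⟩ := Module.projective_lifting_property π' (φ.comp π) hπ'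
  have hmem : ∀ v ∈ G, ∃ c : (Fin a' → P) → P, ∑ w ∈ G', c w • w = F v := fun v hv => by
    have h1 : F v ∈ Submodule.span P (G' : Set (Fin a' → P)) := by
      rw [hG', LinearMap.mem_ker, show π' (F v) = φ (π v) from LinearMap.congr_fun hF v,
        show π v = 0 from hG.le (Submodule.subset_span hv), map_zero]
    exact Submodule.mem_span_finset.1 h1 |>.imp fun c hc => hc.2
  choose! c hc using hmem
  let col : Fin a → Fin a' → P := fun i => F (Pi.single i 1)
  let S₁ : Finset P := (G.biUnion fun v => Finset.univ.image v) ∪ (G'.biUnion fun w => Finset.univ.image w) ∪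
    (Finset.univ.biUnion fun i => Finset.univ.image (col i)) ∪ (G.biUnion fun v => G'.image (c v))
  refine ⟨S₁, fun T _ _ hinj hlift _ _ _ _ => ?_⟩
  choose! lift hlift using hlift
  let K : Submodule T (Fin a → T) := Submodule.span T ((fun v : Fin a → P => fun i => lift (v i)) '' G)
  let K' : Submodule T (Fin a' → T) := Submodule.span T ((fun v : Fin a' → P => fun i => lift (v i)) '' G')
  have hv : ∀ v ∈ G, (fun i => algebraMap T P (lift (v i))) = v := fun v hv => funext fun i => hlift _ (by
    simp only [S₁, Finset.mem_union]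
    exact Or.inl (Or.inl (Or.inl (Finset.mem_biUnion.2 ⟨v, hv, Finset.mem_image_of_mem _ (Finset.mem_univ i)⟩))))
  have hv' : ∀ v ∈ G', (fun i => algebraMap T P (lift (v i))) = v := fun v hv => funext fun i => hlift _ (by
    simp only [S₁, Finset.mem_union]
    exact Or.inl (Or.inl (Or.inr (Finset.mem_biUnion.2 ⟨v, hv, Finset.mem_image_of_mem _ (Finset.mem_univ i)⟩))))
  have kill : ∀ {b : ℕ} {X : Type u} [AddCommGroup X] [Module P X] [Module T X] [IsScalarTower T P X]
      (σ : (Fin b → P) →ₗ[P] X) (H : Finset (Fin b → P)) (_ : Submodule.span P (H : Set _) = LinearMap.ker σ)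
      (_ : ∀ v ∈ H, (fun i => algebraMap T P (lift (v i))) = v)
      (w : Fin b → T), w ∈ Submodule.span T ((fun v : Fin b → P => fun i => lift (v i)) '' (H : Set _)) →
      σ (fun i => algebraMap T P (w i)) = 0 := by
    intro b X _ _ _ _ σ H hH hHl w hw
    induction hw using Submodule.span_induction with
    | mem x hx =>
      obtain ⟨v, hv, rfl⟩ := hx
      show σ (fun i => algebraMap T P (lift (v i))) = 0
      rw [hHl v hv]
      exact hH.le (Submodule.subset_span hv)
    | zero => simp only [Pi.zero_apply, map_zero]; exact map_zero σ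
    | add x y _ _ hx hy =>
      have : (fun i => algebraMap T P ((x + y) i)) = (fun i => algebraMap T P (x i)) + fun i => algebraMap T P (y i) :=
        funext fun i => map_add _ _ _
      rw [this, map_add, hx, hy, add_zero]
    | smul t x _ hx =>
      have : (fun i => algebraMap T P ((t • x) i)) = algebraMap T P t • fun i => algebraMap T P (x i) :=
        funext fun i => map_mul _ _ _
      rw [this, map_smul, hx, smul_zero]
  obtain ⟨h₁, hb₁, he₁⟩ := exists_model_module π hπ (G : Set _) hG K
    (fun v hvG => ⟨_, Submodule.subset_span ⟨v, hvG, rfl⟩, hv v hvG⟩) (fun w hw => kill π G hG hv w hw)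
  obtain ⟨h₂, hb₂, he₂⟩ := exists_model_module π' hπ' (G' : Set _) hG' K'
    (fun v hvG => ⟨_, Submodule.subset_span ⟨v, hvG, rfl⟩, hv' v hvG⟩) (fun w hw => kill π' G' hG' hv' w hw)
  let F₀ : (Fin a → T) →ₗ[T] (Fin a' → T) := Fintype.linearCombination T fun i => fun j => lift (col i j)
  have hF₀ : ∀ w : Fin a → T, (fun j => algebraMap T P (F₀ w j)) = F (fun i => algebraMap T P (w i)) := fun w => by
    have hcol : ∀ i j, algebraMap T P (lift (col i j)) = col i j := fun i j => hlift _ (by
      simp only [S₁, Finset.mem_union]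
      exact Or.inl (Or.inr (Finset.mem_biUnion.2 ⟨i, Finset.mem_univ i, Finset.mem_image_of_mem _ (Finset.mem_univ j)⟩)))
    rw [pi_eq_sum_univ' (fun i => algebraMap T P (w i)), map_sum]
    funext j
    simp only [F₀, Fintype.linearCombination_apply, Finset.sum_apply, Pi.smul_apply, map_sum, map_smul, smul_eq_mul,
      map_mul, hcol]
    rfl
  have hKK : K ≤ K'.comap F₀ := by
    rw [Submodule.span_le]
    rintro _ ⟨v, hvG, rfl⟩
    show F₀ (fun i => lift (v i)) ∈ K'
    have heq : F₀ (fun i => lift (v i)) = ∑ w ∈ G', lift (c v w) • fun j => lift (w j) := by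
      funext j
      apply hinj
      have h1 := congrFun (hF₀ fun i => lift (v i)) j
      rw [hv v hvG, ← hc v hvG] at h1
      rw [h1, Finset.sum_apply, Finset.sum_apply, map_sum]
      refine Finset.sum_congr rfl fun w hw => ?_
      rw [Pi.smul_apply, Pi.smul_apply, smul_eq_mul, smul_eq_mul, map_mul, congrFun (hv' w hw) j, hlift _ (by
        simp only [S₁, Finset.mem_union]
        exact Or.inr (Finset.mem_biUnion.2 ⟨v, hvG, Finset.mem_image_of_mem _ hw⟩))]
    rw [heq]
    exact Submodule.sum_mem _ fun w hw => Submodule.smul_mem _ _ (Submodule.subset_span ⟨w, hw, rfl⟩)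
  let φ₀ : ((Fin a → T) ⧸ K) →ₗ[T] ((Fin a' → T) ⧸ K') := K.mapQ K' F₀ hKK
  have hsq : ∀ x, h₂ (φ₀ x) = φ (h₁ x) := fun x => by
    obtain ⟨w, rfl⟩ := Submodule.Quotient.mk_surjective K x
    rw [he₁, Submodule.mapQ_apply, he₂, hF₀]
    exact LinearMap.congr_fun hF _
  exact ⟨(Fin a → T) ⧸ K, (Fin a' → T) ⧸ K', inferInstance, inferInstance, inferInstance, inferInstance, h₁, h₂, φ₀,
    inferInstance, inferInstance, hb₁, hb₂, hsq⟩

theorem injective_lTensor_congr {R X X' Y Y' L : Type u} [CommRing R] [AddCommGroup X] [Module R X] [AddCommGroup X']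
    [Module R X'] [AddCommGroup Y] [Module R Y] [AddCommGroup Y'] [Module R Y'] [AddCommGroup L] [Module R L]
    (e₁ : X ≃ₗ[R] Y) (e₂ : X' ≃ₗ[R] Y') (ψ : X →ₗ[R] X') (φ : Y →ₗ[R] Y') (h : ∀ z, e₂ (ψ z) = φ (e₁ z)) :
    Function.Injective (φ.lTensor L) ↔ Function.Injective (ψ.lTensor L) := by
  have hc : φ ∘ₗ e₁.toLinearMap = e₂.toLinearMap ∘ₗ ψ := LinearMap.ext fun z => (h z).symm
  have hc' := congrArg (fun l => ⇑(LinearMap.lTensor L l)) hc
  simp only [LinearMap.lTensor_comp, LinearMap.coe_comp] at hc'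
  rw [← Function.Injective.of_comp_iff' _ (e₁.lTensor L).bijective]
  show Function.Injective (_ ∘ ⇑(e₁.toLinearMap.lTensor L)) ↔ _
  rw [hc']
  exact (e₂.lTensor L).injective.of_comp_iff _

theorem injective_fibre_iff_model {R₀ R T P : Type u} [CommRing R₀] [CommRing R] [CommRing T] [CommRing P]
    [Algebra R₀ R] [Algebra R₀ T] [Algebra R₀ P] [Algebra R P] [Algebra T P] [IsScalarTower R₀ R P]
    [IsScalarTower R₀ T P] [Algebra.IsPushout R₀ R T P] {M₀ M₀' M M' : Type u} [AddCommGroup M₀] [Module T M₀]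
    [Module R₀ M₀] [IsScalarTower R₀ T M₀] [AddCommGroup M₀'] [Module T M₀'] [Module R₀ M₀'] [IsScalarTower R₀ T M₀']
    [AddCommGroup M] [Module P M] [Module R M] [IsScalarTower R P M] [Module T M] [IsScalarTower T P M]
    [AddCommGroup M'] [Module P M'] [Module R M'] [IsScalarTower R P M'] [Module T M'] [IsScalarTower T P M']
    (h₁ : M₀ →ₗ[T] M) (h₂ : M₀' →ₗ[T] M') (φ₀ : M₀ →ₗ[T] M₀') (φ : M →ₗ[P] M') (hb₁ : IsBaseChange P h₁)
    (hb₂ : IsBaseChange P h₂) (hsq : ∀ x, h₂ (φ₀ x) = φ (h₁ x)) (q : Ideal R) [q.IsPrime] :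
    Function.Injective ((φ.restrictScalars R).lTensor q.ResidueField) ↔
      Function.Injective ((φ₀.restrictScalars R₀).lTensor (q.comap (algebraMap R₀ R)).ResidueField) := by
  let e₁ := (Algebra.IsPushout.cancelBaseChange R₀ R T P M₀).symm.trans (hb₁.equiv.restrictScalars R)
  let e₂ := (Algebra.IsPushout.cancelBaseChange R₀ R T P M₀').symm.trans (hb₂.equiv.restrictScalars R)
  rw [← injective_residueField_iff (R' := R) (φ₀.restrictScalars R₀) q]
  refine injective_lTensor_congr e₁ e₂ _ _ fun z => ?_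
  induction z using TensorProduct.induction_on with
  | zero => simp
  | add x y hx hy => simp only [map_add, hx, hy]
  | tmul r x =>
    simp only [e₁, e₂, LinearMap.baseChange_tmul, LinearEquiv.trans_apply, LinearMap.coe_restrictScalars,
      Algebra.IsPushout.cancelBaseChange_symm_tmul, LinearEquiv.restrictScalars_apply, IsBaseChange.equiv_tmul,
      hsq, map_smul]

set_option maxHeartbeats 800000 in
theorem exists_away_pushout {R₀ R T P : Type u} [CommRing R₀] [IsNoetherianRing R₀] [CommRing R] [CommRing T]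
    [CommRing P] [Algebra R₀ R] [Algebra R₀ T] [Algebra R₀ P] [Algebra R P] [Algebra T P] [IsScalarTower R₀ R P]
    [IsScalarTower R₀ T P] [Algebra.IsPushout R₀ R T P] [Algebra.FiniteType R₀ T] {M M' : Type u} [AddCommGroup M]
    [Module P M] [Module R M] [IsScalarTower R P M] [AddCommGroup M'] [Module P M'] [Module R M'] [IsScalarTower R P M']
    (φ : M →ₗ[P] M')
    (hS₁ : ∀ [Module T M] [IsScalarTower T P M] [Module T M'] [IsScalarTower T P M'],
      ∃ (M₀ M₀' : Type u) (_ : AddCommGroup M₀) (_ : Module T M₀) (_ : AddCommGroup M₀') (_ : Module T M₀')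
        (h₁ : M₀ →ₗ[T] M) (h₂ : M₀' →ₗ[T] M') (φ₀ : M₀ →ₗ[T] M₀'),
        Module.Finite T M₀ ∧ Module.Finite T M₀' ∧ IsBaseChange P h₁ ∧ IsBaseChange P h₂ ∧ ∀ x, h₂ (φ₀ x) = φ (h₁ x))
    (p : Ideal R) [p.IsPrime]
    (h : ∀ (q : Ideal R) [q.IsPrime], q ≤ p → Function.Injective ((φ.restrictScalars R).lTensor q.ResidueField)) :
    ∃ f ∉ p, ∀ (q : Ideal R) [q.IsPrime], f ∉ q →
      Function.Injective ((φ.restrictScalars R).lTensor q.ResidueField) := by
  letI : Module T M := Module.compHom M (algebraMap T P)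
  haveI : IsScalarTower T P M := IsScalarTower.of_algebraMap_smul fun _ _ => rfl
  letI : Module T M' := Module.compHom M' (algebraMap T P)
  haveI : IsScalarTower T P M' := IsScalarTower.of_algebraMap_smul fun _ _ => rfl
  obtain ⟨M₀, M₀', _, _, _, _, h₁, h₂, φ₀, hfin, hfin', hb₁, hb₂, hsq⟩ := hS₁
  haveI := hfin; haveI := hfin'
  letI : Module R₀ M₀ := Module.compHom M₀ (algebraMap R₀ T)
  haveI : IsScalarTower R₀ T M₀ := IsScalarTower.of_algebraMap_smul fun _ _ => rfl
  letI : Module R₀ M₀' := Module.compHom M₀' (algebraMap R₀ T)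
  haveI : IsScalarTower R₀ T M₀' := IsScalarTower.of_algebraMap_smul fun _ _ => rfl
  obtain ⟨f, hf, hfq⟩ := exists_away_model (R := R) (R₀ := R₀) (T₀ := T) φ₀ p fun q _ hqp =>
    (injective_fibre_iff_model (R₀ := R₀) (T := T) (P := P) h₁ h₂ φ₀ φ hb₁ hb₂ hsq q).1 (h q hqp)
  exact ⟨f, hf, fun q _ hq => (injective_fibre_iff_model (R₀ := R₀) (T := T) (P := P) h₁ h₂ φ₀ φ hb₁ hb₂ hsq q).2 (hfq q hq)⟩

theorem exists_noetherian_sub {R : Type u} [CommRing R] (s : Finset R) :
    ∃ (R₀ : Type u) (_ : CommRing R₀) (_ : Algebra R₀ R), IsNoetherianRing R₀ ∧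
      Function.Injective (algebraMap R₀ R) ∧ ∀ r ∈ s, r ∈ Set.range (algebraMap R₀ R) := by
  let R₀ : Subalgebra ℤ R := Algebra.adjoin ℤ (s : Set R)
  haveI : Algebra.FiniteType ℤ R₀ := (Subalgebra.fg_iff_finiteType R₀).1 (Subalgebra.fg_adjoin_finset _)
  exact ⟨R₀, inferInstance, inferInstance, Algebra.FiniteType.isNoetherianRing ℤ R₀, Subtype.val_injective,
    fun r hr => ⟨⟨r, Algebra.subset_adjoin hr⟩, rfl⟩⟩

attribute [local instance] MvPolynomial.algebraMvPolynomial in
set_option maxHeartbeats 800000 in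
theorem exists_away_poly {R : Type u} [CommRing R] (n : ℕ) {M M' : Type u} [AddCommGroup M]
    [Module (MvPolynomial (Fin n) R) M] [Module R M] [IsScalarTower R (MvPolynomial (Fin n) R) M]
    [Module.FinitePresentation (MvPolynomial (Fin n) R) M] [AddCommGroup M'] [Module (MvPolynomial (Fin n) R) M']
    [Module R M'] [IsScalarTower R (MvPolynomial (Fin n) R) M'] [Module.FinitePresentation (MvPolynomial (Fin n) R) M']
    (φ : M →ₗ[MvPolynomial (Fin n) R] M') (p : Ideal R) [p.IsPrime]
    (h : ∀ (q : Ideal R) [q.IsPrime], q ≤ p → Function.Injective ((φ.restrictScalars R).lTensor q.ResidueField)) :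
    ∃ f ∉ p, ∀ (q : Ideal R) [q.IsPrime], f ∉ q →
      Function.Injective ((φ.restrictScalars R).lTensor q.ResidueField) := by
  classical
  let P := MvPolynomial (Fin n) R
  classical
  obtain ⟨S₁, hS₁⟩ := exists_model_map φ
  obtain ⟨R₀, _, _, _, hinj, hmem⟩ := exists_noetherian_sub (S₁.biUnion fun x => x.coeffs)
  refine exists_away_pushout (R₀ := R₀) (R := R) (T := MvPolynomial (Fin n) R₀) (P := MvPolynomial (Fin n) R) φ
    (hS₁ _ (MvPolynomial.map_injective (algebraMap R₀ R) hinj) fun x hx => ?_) p h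
  obtain ⟨y, hy⟩ := MvPolynomial.mem_range_map_iff_coeffs_subset (f := algebraMap R₀ R) (x := x) |>.2 fun r hr =>
    hmem r (Finset.mem_biUnion.2 ⟨x, hx, hr⟩)
  exact ⟨y, hy⟩

/-- Injectivity of a map of finitely presented modules on the fibres over generalisations spreads out. -/
theorem exists_away {R S : Type u} [CommRing R] [CommRing S] [Algebra R S] [Algebra.FinitePresentation R S]
    {M M' : Type u} [AddCommGroup M] [Module S M] [Module R M] [IsScalarTower R S M] [Module.FinitePresentation S M]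
    [AddCommGroup M'] [Module S M'] [Module R M'] [IsScalarTower R S M'] [Module.FinitePresentation S M']
    (φ : M →ₗ[S] M') (p : Ideal R) [p.IsPrime]
    (h : ∀ (q : Ideal R) [q.IsPrime], q ≤ p → Function.Injective ((φ.restrictScalars R).lTensor q.ResidueField)) :
    ∃ f ∉ p, ∀ (q : Ideal R) [q.IsPrime], f ∉ q →
      Function.Injective ((φ.restrictScalars R).lTensor q.ResidueField) := by
  obtain ⟨n, π, hπ, hker⟩ := Algebra.FinitePresentation.out (R := R) (A := S)
  let P := MvPolynomial (Fin n) R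
  letI : Algebra P S := π.toRingHom.toAlgebra
  haveI : IsScalarTower R P S := IsScalarTower.of_algebraMap_eq fun r => (π.commutes r).symm
  haveI : Module.FinitePresentation P S := Module.finitePresentation_of_surjective (Algebra.linearMap P S) hπ hker
  letI : Module P M := Module.compHom M (algebraMap P S)
  haveI : IsScalarTower P S M := IsScalarTower.of_algebraMap_smul fun _ _ => rfl
  letI : Module P M' := Module.compHom M' (algebraMap P S)
  haveI : IsScalarTower P S M' := IsScalarTower.of_algebraMap_smul fun _ _ => rfl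
  haveI : IsScalarTower R P M := IsScalarTower.to₁₂₄ R P S M
  haveI : IsScalarTower R P M' := IsScalarTower.to₁₂₄ R P S M'
  haveI : Module.FinitePresentation P M := Module.FinitePresentation.trans P M S
  haveI : Module.FinitePresentation P M' := Module.FinitePresentation.trans P M' S
  exact exists_away_poly n (φ.restrictScalars P) p h

end Groth.Agent.SpreadInj
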