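import Groth.Agent.S0389
import Mathlib.RingTheory.Flat.Tensor
import Mathlib.RingTheory.Flat.FaithfullyFlat.Basic

/-! Injectivity of a map of modules on the fibres: change of field and generic behaviour. -/

set_option autoImplicit false
set_option backward.isDefEq.respectTransparency false
set_option backward.isDefEq.respectTransparency.types false
attribute [-instance] CategoryTheory.catToReflQuiver

universe u

open TensorProduct

namespace Groth.Agent.SpreadInj

theorem injective_baseChange_iff {R D L M M' : Type u} [CommRing R] [CommRing D] [CommRing L] [Algebra R D]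
    [Algebra D L] [Algebra R L] [IsScalarTower R D L] [AddCommGroup M] [Module R M] [AddCommGroup M'] [Module R M']
    (φ : M →ₗ[R] M') :
    Function.Injective ((φ.baseChange D).lTensor L) ↔ Function.Injective (φ.lTensor L) := by
  let eM := TensorProduct.AlgebraTensorModule.cancelBaseChange R D L L M
  let eM' := TensorProduct.AlgebraTensorModule.cancelBaseChange R D L L M'
  have he : ∀ z, eM' ((φ.baseChange D).lTensor L z) = φ.lTensor L (eM z) := fun z => by
    induction z using TensorProduct.induction_on with
    | zero => simp
    | add x y hx hy => simp only [map_add, hx, hy]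
    | tmul a b =>
      induction b using TensorProduct.induction_on with
      | zero => simp
      | add x y hx hy => simp only [TensorProduct.tmul_add, map_add, hx, hy]
      | tmul c x => simp [eM, eM']
  constructor
  · intro h x y hxy
    obtain ⟨x, rfl⟩ := eM.surjective x
    obtain ⟨y, rfl⟩ := eM.surjective y
    rw [← he, ← he] at hxy
    rw [h (eM'.injective hxy)]
  · intro h x y hxy
    exact eM.injective (h (by rw [← he, ← he, hxy]))

theorem injective_field_iff {R K L M M' : Type u} [CommRing R] [Field K] [Field L] [Algebra R K] [Algebra K L]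
    [Algebra R L] [IsScalarTower R K L] [AddCommGroup M] [Module R M] [AddCommGroup M'] [Module R M']
    (φ : M →ₗ[R] M') : Function.Injective (φ.lTensor L) ↔ Function.Injective (φ.lTensor K) := by
  rw [← injective_baseChange_iff (D := K), Module.FaithfullyFlat.lTensor_injective_iff_injective]
  rfl

theorem injective_residueField_iff {R R' M M' : Type u} [CommRing R] [CommRing R'] [Algebra R R'] [AddCommGroup M]
    [Module R M] [AddCommGroup M'] [Module R M'] (φ : M →ₗ[R] M') (q : Ideal R') [q.IsPrime] :
    Function.Injective ((φ.baseChange R').lTensor q.ResidueField) ↔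
      Function.Injective (φ.lTensor (q.comap (algebraMap R R')).ResidueField) := by
  let p := q.comap (algebraMap R R')
  let ι : p.ResidueField →ₐ[R] q.ResidueField := Ideal.ResidueField.mapₐ p q (Algebra.ofId R R') rfl
  letI : Algebra p.ResidueField q.ResidueField := ι.toRingHom.toAlgebra
  haveI : IsScalarTower R p.ResidueField q.ResidueField :=
    IsScalarTower.of_algebraMap_eq fun r => (ι.commutes r).symm
  rw [injective_baseChange_iff, injective_field_iff (K := p.ResidueField)]

/-- Over a domain, fibrewise injectivity of a map of finite modules is constant on a nonempty open. -/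
theorem exists_const {D T M M' : Type u} [CommRing D] [IsDomain D] [IsNoetherianRing D] [CommRing T] [Algebra D T]
    [Algebra.FiniteType D T] [AddCommGroup M] [Module T M] [Module D M] [IsScalarTower D T M] [Module.Finite T M]
    [AddCommGroup M'] [Module T M'] [Module D M'] [IsScalarTower D T M'] [Module.Finite T M'] (φ : M →ₗ[T] M') :
    ∃ f : D, f ≠ 0 ∧
      ((∀ (q : Ideal D) [q.IsPrime], f ∉ q → Function.Injective ((φ.restrictScalars D).lTensor q.ResidueField)) ∨
       (∀ (q : Ideal D) [q.IsPrime], f ∉ q → ¬ Function.Injective ((φ.restrictScalars D).lTensor q.ResidueField))) := by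
  haveI : IsNoetherianRing T := Algebra.FiniteType.isNoetherianRing D T
  let K := LinearMap.ker φ
  let I := LinearMap.range φ
  haveI : IsNoetherian T M := inferInstance
  haveI : IsNoetherian T M' := inferInstance
  obtain ⟨a, ha, hK, -⟩ := Groth.Agent.S0389.result (R := D) (S := T) (M := K)
  obtain ⟨b, hb, hI, -⟩ := Groth.Agent.S0389.result (R := D) (S := T) (M := I)
  obtain ⟨c, hc, hQ, -⟩ := Groth.Agent.S0389.result (R := D) (S := T) (M := M' ⧸ I)
  let f := a * b * c
  let Df := Localization.Away f
  have free : ∀ {X : Type u} [AddCommGroup X] [Module D X] (g : D), g ∣ f →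
      Module.Free (Localization.Away g) (Localization.Away g ⊗[D] X) → Module.Free Df (Df ⊗[D] X) := by
    intro X _ _ g hg h
    have hu : IsUnit (algebraMap D Df g) := isUnit_of_dvd_unit (map_dvd _ hg) (IsLocalization.Away.algebraMap_isUnit f)
    letI : Algebra (Localization.Away g) Df := (IsLocalization.Away.lift g hu).toAlgebra
    haveI : IsScalarTower D (Localization.Away g) Df :=
      IsScalarTower.of_algebraMap_eq fun x => (IsLocalization.Away.lift_eq g hu x).symm
    haveI := h
    exact Module.Free.of_equiv (TensorProduct.AlgebraTensorModule.cancelBaseChange D (Localization.Away g) Df Df X)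
  haveI hKf := free (X := K) a ((dvd_mul_right a b).trans (dvd_mul_right _ c)) hK
  haveI hIf := free (X := I) b ((dvd_mul_left b a).trans (dvd_mul_right _ c)) hI
  haveI hQf := free (X := M' ⧸ I) c (dvd_mul_left c _) hQ
  let i₁ := (K.subtype.restrictScalars D).baseChange Df
  let g₁ := (φ.rangeRestrict.restrictScalars D).baseChange Df
  let i₂ := (I.subtype.restrictScalars D).baseChange Df
  let g₂ := (I.mkQ.restrictScalars D).baseChange Df
  haveI : Module.Flat D Df := IsLocalization.flat Df (Submonoid.powers f)
  have hg₁ : Function.Surjective g₁ := LinearMap.lTensor_surjective Df φ.surjective_rangeRestrict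
  have hex₁ : Function.Exact i₁ g₁ := lTensor_exact Df
    (LinearMap.exact_iff.2 (by
      ext x
      simp [LinearMap.mem_ker, K, Subtype.ext_iff]) : Function.Exact (K.subtype.restrictScalars D) (φ.rangeRestrict.restrictScalars D))
    φ.surjective_rangeRestrict
  have hi₁ : Function.Injective i₁ :=
    Module.Flat.lTensor_preserves_injective_linearMap (K.subtype.restrictScalars D) Subtype.val_injective
  have hg₂ : Function.Surjective g₂ := LinearMap.lTensor_surjective Df (Submodule.mkQ_surjective I)
  have hex₂ : Function.Exact i₂ g₂ := lTensor_exact Df (LinearMap.exact_subtype_mkQ I) (Submodule.mkQ_surjective I)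
  have hi₂ : Function.Injective i₂ :=
    Module.Flat.lTensor_preserves_injective_linearMap (I.subtype.restrictScalars D) Subtype.val_injective
  have key : ∀ (q : Ideal D) [q.IsPrime], f ∉ q →
      (Function.Injective ((φ.restrictScalars D).lTensor q.ResidueField) ↔ Subsingleton (Df ⊗[D] K)) := by
    intro q _ hf
    let L := q.ResidueField
    have hu : IsUnit (algebraMap D L f) :=
      isUnit_iff_ne_zero.2 fun h => hf (Ideal.algebraMap_residueField_eq_zero.1 h)
    letI : Algebra Df L := (IsLocalization.Away.lift f hu).toAlgebra
    haveI : IsScalarTower D Df L := IsScalarTower.of_algebraMap_eq fun x => (IsLocalization.Away.lift_eq f hu x).symm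
    have h2 : Function.Injective (i₂.lTensor L) := LinearMap.lTensor_injective_of_exact_of_flat g₂ hg₂ i₂ hi₂ hex₂ L
    have h1 : Function.Injective (i₁.lTensor L) := LinearMap.lTensor_injective_of_exact_of_flat g₁ hg₁ i₁ hi₁ hex₁ L
    have hcomp : (φ.restrictScalars D).baseChange Df = i₂.comp g₁ := by
      rw [← LinearMap.baseChange_comp]
      rfl
    rw [← injective_baseChange_iff (D := Df), hcomp, LinearMap.lTensor_comp, LinearMap.coe_comp, h2.of_comp_iff]
    constructor
    · intro h
      have hex : Function.Exact (i₁.lTensor L) (g₁.lTensor L) := lTensor_exact L hex₁ hg₁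
      have h0 : ∀ z, z = (0 : L ⊗[Df] (Df ⊗[D] K)) := fun z =>
        h1 ((h ((hex.apply_apply_eq_zero z).trans (map_zero _).symm)).trans (map_zero _).symm)
      by_contra hns
      rw [not_subsingleton_iff_nontrivial] at hns
      let bas := Module.Free.chooseBasis Df (Df ⊗[D] K)
      obtain ⟨j⟩ := bas.index_nonempty
      have h3 : (bas.baseChange L) j = 0 := h0 _
      exact (bas.baseChange L).ne_zero j h3
    · intro hsub x y hxy
      have hex : Function.Exact (i₁.lTensor L) (g₁.lTensor L) := lTensor_exact L hex₁ hg₁
      obtain ⟨z, hz⟩ := (hex (x - y)).1 (by rw [map_sub, hxy, sub_self])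
      haveI := hsub
      have hz0 : z = 0 := by
        clear hz
        induction z using TensorProduct.induction_on with
        | zero => rfl
        | add a b ha hb => rw [ha, hb, add_zero]
        | tmul a b => rw [Subsingleton.elim b 0, TensorProduct.tmul_zero]
      rw [hz0, map_zero] at hz
      exact sub_eq_zero.1 hz.symm
  refine ⟨f, mul_ne_zero (mul_ne_zero ha hb) hc, ?_⟩
  by_cases h : Subsingleton (Df ⊗[D] K)
  · exact Or.inl fun q _ hq => (key q hq).2 h
  · exact Or.inr fun q _ hq hinj => h ((key q hq).1 hinj)

end Groth.Agent.SpreadInj
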