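import Groth.Agent.SpreadInj.Const
import Mathlib.RingTheory.Noetherian.Basic

/-! Fibrewise injectivity near a prime follows from injectivity on the generalisations. -/

set_option autoImplicit false
set_option backward.isDefEq.respectTransparency false
set_option backward.isDefEq.respectTransparency.types false
attribute [-instance] CategoryTheory.catToReflQuiver

universe u

open TensorProduct

namespace Groth.Agent.SpreadInj

theorem mk_ne_zero_of {R : Type u} [CommRing R] {P : Ideal R} {g : R} (h : Ideal.Quotient.mk P g ≠ 0) : g ∉ P :=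
  fun hg => h (Ideal.Quotient.eq_zero_iff_mem.2 hg)

/-- The generic behaviour on a base change, with the base-changed algebra abstract. -/
theorem exists_const_baseChange {R₀ T₀ M M' : Type u} [CommRing R₀] [CommRing T₀] [Algebra R₀ T₀]
    [AddCommGroup M] [Module T₀ M] [Module R₀ M] [IsScalarTower R₀ T₀ M]
    [Module.Finite T₀ M] [AddCommGroup M'] [Module T₀ M'] [Module R₀ M'] [IsScalarTower R₀ T₀ M'] [Module.Finite T₀ M']
    (φ : M →ₗ[T₀] M') (D T : Type u) [CommRing D] [IsDomain D] [IsNoetherianRing D] [CommRing T] [Algebra R₀ D]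
    [Algebra R₀ T] [Algebra D T] [Algebra T₀ T] [IsScalarTower R₀ D T] [IsScalarTower R₀ T₀ T]
    [Algebra.IsPushout R₀ D T₀ T] [Algebra.FiniteType D T] :
    ∃ f : D, f ≠ 0 ∧
      ((∀ (q : Ideal D) [q.IsPrime], f ∉ q →
          Function.Injective (((φ.restrictScalars R₀).baseChange D).lTensor q.ResidueField)) ∨
       (∀ (q : Ideal D) [q.IsPrime], f ∉ q →
          ¬ Function.Injective (((φ.restrictScalars R₀).baseChange D).lTensor q.ResidueField))) := by
  haveI : Algebra.IsPushout R₀ T₀ D T := Algebra.IsPushout.symm inferInstance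
  let MT := T ⊗[T₀] M
  let MT' := T ⊗[T₀] M'
  let ψ : MT →ₗ[T] MT' := φ.baseChange T
  haveI : IsScalarTower D T MT := inferInstance
  haveI : IsScalarTower D T MT' := inferInstance
  obtain ⟨f, hf, hall⟩ := exists_const (D := D) (T := T) (M := MT) (M' := MT') ψ
  let eM := Algebra.IsPushout.cancelBaseChange R₀ D T₀ T M
  let eM' := Algebra.IsPushout.cancelBaseChange R₀ D T₀ T M'
  have hsq : ∀ z, eM'.symm (((φ.restrictScalars R₀).baseChange D) z) = ψ (eM.symm z) := fun z => by
    induction z using TensorProduct.induction_on with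
    | zero => simp
    | add a b ha hb => simp only [map_add, ha, hb]
    | tmul a b =>
      simp only [eM, eM', LinearMap.baseChange_tmul, Algebra.IsPushout.cancelBaseChange_symm_tmul,
        LinearMap.coe_restrictScalars]
      exact (LinearMap.baseChange_tmul (A := T) φ (algebraMap D T a) b).symm
  have h2 : ∀ (L : Type u) [AddCommGroup L] [Module D L],
      Function.Injective (((φ.restrictScalars R₀).baseChange D).lTensor L) ↔
        Function.Injective ((ψ.restrictScalars D).lTensor L) := fun L _ _ => by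
    have hc : (ψ.restrictScalars D) ∘ₗ eM.symm.toLinearMap =
        eM'.symm.toLinearMap ∘ₗ (φ.restrictScalars R₀).baseChange D := LinearMap.ext fun z => (hsq z).symm
    have hc' := congrArg (fun l => ⇑(LinearMap.lTensor L l)) hc
    simp only [LinearMap.lTensor_comp, LinearMap.coe_comp] at hc'
    rw [← (eM'.symm.lTensor L).injective.of_comp_iff]
    show Function.Injective ((eM'.symm.toLinearMap.lTensor L) ∘ _) ↔ _
    rw [← hc']
    exact Function.Injective.of_comp_iff' _ (eM.symm.lTensor L).bijective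
  refine ⟨f, hf, ?_⟩
  rcases hall with hall | hall
  · exact Or.inl fun q _ hq => (h2 _).2 (hall q hq)
  · exact Or.inr fun q _ hq hinj => hall q hq ((h2 _).1 hinj)

set_option maxHeartbeats 800000 in
theorem exists_const_quot {R₀ T₀ M M' : Type u} [CommRing R₀] [IsNoetherianRing R₀] [CommRing T₀] [Algebra R₀ T₀]
    [Algebra.FiniteType R₀ T₀] [AddCommGroup M] [Module T₀ M] [Module R₀ M] [IsScalarTower R₀ T₀ M]
    [Module.Finite T₀ M] [AddCommGroup M'] [Module T₀ M'] [Module R₀ M'] [IsScalarTower R₀ T₀ M'] [Module.Finite T₀ M']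
    (φ : M →ₗ[T₀] M') (P : Ideal R₀) [P.IsPrime] :
    ∃ g : R₀, g ∉ P ∧
      ((∀ (q : Ideal R₀) [q.IsPrime], P ≤ q → g ∉ q → Function.Injective ((φ.restrictScalars R₀).lTensor q.ResidueField)) ∨
       (∀ (q : Ideal R₀) [q.IsPrime], P ≤ q → g ∉ q → ¬ Function.Injective ((φ.restrictScalars R₀).lTensor q.ResidueField))) := by
  let D := R₀ ⧸ P
  let T := D ⊗[R₀] T₀
  letI : Algebra T₀ T := Algebra.TensorProduct.rightAlgebra
  haveI : IsScalarTower R₀ T₀ T := Algebra.TensorProduct.right_isScalarTower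
  haveI : Algebra.IsPushout R₀ D T₀ T := TensorProduct.isPushout (R := R₀) (S := D) (T := T₀)
  haveI : Algebra.IsPushout R₀ T₀ D T := Algebra.IsPushout.symm inferInstance
  obtain ⟨f, hf, hall⟩ := exists_const_baseChange (R₀ := R₀) φ D T
  obtain ⟨g, rfl⟩ := Ideal.Quotient.mk_surjective f
  have key : ∀ (q : Ideal R₀) [q.IsPrime], P ≤ q → g ∉ q → ∃ (q' : Ideal D) (_ : q'.IsPrime),
      Ideal.Quotient.mk P g ∉ q' ∧ (Function.Injective ((φ.restrictScalars R₀).lTensor q.ResidueField) ↔
        Function.Injective (((φ.restrictScalars R₀).baseChange D).lTensor q'.ResidueField)) := by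
    intro q _ hPq hgq
    haveI hq' : (q.map (Ideal.Quotient.mk P)).IsPrime :=
      Ideal.map_isPrime_of_surjective Ideal.Quotient.mk_surjective (by rw [Ideal.mk_ker]; exact hPq)
    let q' := q.map (Ideal.Quotient.mk P)
    have hcomap : q'.comap (algebraMap R₀ D) = q := by
      show (q.map (Ideal.Quotient.mk P)).comap (Ideal.Quotient.mk P) = q
      rw [Ideal.comap_map_of_surjective _ Ideal.Quotient.mk_surjective, ← RingHom.ker_eq_comap_bot, Ideal.mk_ker,
        sup_eq_left.2 hPq]
    refine ⟨q', hq', fun h => hgq (hcomap ▸ h : g ∈ q), ?_⟩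
    have h1 := injective_residueField_iff (R' := D) (φ.restrictScalars R₀) q'
    rw [h1]
    have hfield : ∀ (J : Ideal R₀) [J.IsPrime], J = q →
        (Function.Injective ((φ.restrictScalars R₀).lTensor q.ResidueField) ↔
          Function.Injective ((φ.restrictScalars R₀).lTensor J.ResidueField)) := by
      intro J _ h; subst h; rfl
    exact hfield _ hcomap
  refine ⟨g, mk_ne_zero_of hf, ?_⟩
  rcases hall with hall | hall
  · refine Or.inl fun q _ hP hg => ?_
    obtain ⟨q', hq', hgq', hiff⟩ := key q hP hg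
    exact hiff.2 (hall q' hgq')
  · refine Or.inr fun q _ hP hg hinj => ?_
    obtain ⟨q', hq', hgq', hiff⟩ := key q hP hg
    exact hall q' hgq' (hiff.1 hinj)

theorem exists_away_radical {R : Type u} [CommRing R] (p : Ideal R) [p.IsPrime] (J : Ideal R) (g : R)
    (h : ∀ (q : Ideal R) [q.IsPrime], q ≤ p → J ≤ q → g ∈ q) :
    ∃ f ∉ p, ∀ (q : Ideal R) [q.IsPrime], f ∉ q → J ≤ q → g ∈ q := by
  let Rp := Localization.AtPrime p
  have hrad : algebraMap R Rp g ∈ (J.map (algebraMap R Rp)).radical := by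
    rw [Ideal.radical_eq_sInf, Ideal.mem_sInf]
    intro Q hQ
    haveI := hQ.2
    refine h (Q.comap (algebraMap R Rp)) (fun x hx => ?_) (Ideal.map_le_iff_le_comap.1 hQ.1)
    by_contra hxp
    exact hQ.2.ne_top (Ideal.eq_top_of_isUnit_mem _ hx (IsLocalization.map_units Rp (⟨x, hxp⟩ : p.primeCompl)))
  obtain ⟨k, hk⟩ := hrad
  rw [← map_pow, IsLocalization.algebraMap_mem_map_algebraMap_iff p.primeCompl] at hk
  obtain ⟨f, hf, hfk⟩ := hk
  refine ⟨f, hf, fun q _ hfq hJq => ?_⟩
  exact Ideal.IsPrime.mem_of_pow_mem ‹q.IsPrime› k (((Ideal.IsPrime.mem_or_mem ‹q.IsPrime› (hJq hfk))).resolve_left hfq)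

set_option maxHeartbeats 800000 in
theorem exists_away_model {R₀ R T₀ M M' : Type u} [CommRing R₀] [IsNoetherianRing R₀] [CommRing R] [Algebra R₀ R]
    [CommRing T₀] [Algebra R₀ T₀] [Algebra.FiniteType R₀ T₀] [AddCommGroup M] [Module T₀ M] [Module R₀ M]
    [IsScalarTower R₀ T₀ M] [Module.Finite T₀ M] [AddCommGroup M'] [Module T₀ M'] [Module R₀ M']
    [IsScalarTower R₀ T₀ M'] [Module.Finite T₀ M'] (φ : M →ₗ[T₀] M') (p : Ideal R) [p.IsPrime]
    (h : ∀ (q : Ideal R) [q.IsPrime], q ≤ p →
      Function.Injective ((φ.restrictScalars R₀).lTensor (q.comap (algebraMap R₀ R)).ResidueField)) :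
    ∃ f ∉ p, ∀ (q : Ideal R) [q.IsPrime], f ∉ q →
      Function.Injective ((φ.restrictScalars R₀).lTensor (q.comap (algebraMap R₀ R)).ResidueField) := by
  suffices H : ∀ J : Ideal R₀, ∃ f ∉ p, ∀ (q : Ideal R) [q.IsPrime], f ∉ q → J ≤ q.comap (algebraMap R₀ R) →
      Function.Injective ((φ.restrictScalars R₀).lTensor (q.comap (algebraMap R₀ R)).ResidueField) by
    obtain ⟨f, hf, hq⟩ := H ⊥
    exact ⟨f, hf, fun q _ hfq => hq q hfq bot_le⟩
  intro J
  induction J using WellFoundedGT.induction with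
  | ind J ih =>
    by_cases hJ : J = ⊤
    · exact ⟨1, fun h1 => Ideal.IsPrime.ne_top ‹p.IsPrime› ((Ideal.eq_top_iff_one _).2 h1), fun q _ _ hle =>
        absurd (top_le_iff.1 (hJ ▸ hle)) (Ideal.IsPrime.ne_top (Ideal.IsPrime.comap _))⟩
    by_cases hP : J.IsPrime
    · haveI := hP
      obtain ⟨g, hg, hall⟩ := exists_const_quot φ J
      obtain ⟨f₁, hf₁, h₁⟩ := ih (J ⊔ Ideal.span {g}) (left_lt_sup.2 fun hle => hg (hle (Ideal.mem_span_singleton_self g)))
      have hclosed : ∀ (q : Ideal R) [q.IsPrime], f₁ ∉ q → J ≤ q.comap (algebraMap R₀ R) →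
          g ∈ q.comap (algebraMap R₀ R) →
            Function.Injective ((φ.restrictScalars R₀).lTensor (q.comap (algebraMap R₀ R)).ResidueField) :=
        fun q _ hfq hle hgq => h₁ q hfq (sup_le hle ((Ideal.span_singleton_le_iff_mem (I := q.comap (algebraMap R₀ R))).2 hgq))
      rcases hall with hall | hall
      · refine ⟨f₁, hf₁, fun q _ hfq hle => ?_⟩
        by_cases hgq : g ∈ q.comap (algebraMap R₀ R)
        · exact hclosed q hfq hle hgq
        · exact hall _ hle hgq
      · obtain ⟨f₂, hf₂, h₂⟩ := exists_away_radical p (J.map (algebraMap R₀ R)) (algebraMap R₀ R g)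
          fun q _ hqp hle => by
            by_contra hgq
            exact hall (q.comap (algebraMap R₀ R)) (Ideal.map_le_iff_le_comap.1 hle) hgq (h q hqp)
        refine ⟨f₁ * f₂, ‹p.IsPrime›.mul_notMem hf₁ hf₂, fun q _ hfq hle => ?_⟩
        exact hclosed q (fun hh => hfq (q.mul_mem_right _ hh)) hle
          (h₂ q (fun hh => hfq (q.mul_mem_left _ hh)) (Ideal.map_le_iff_le_comap.2 hle))
    · obtain ⟨a, ha, b, hb, hab⟩ := (Ideal.not_isPrime_iff.1 hP).resolve_left hJ
      obtain ⟨f₁, hf₁, h₁⟩ := ih (J ⊔ Ideal.span {a}) (left_lt_sup.2 fun hle => ha (hle (Ideal.mem_span_singleton_self a)))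
      obtain ⟨f₂, hf₂, h₂⟩ := ih (J ⊔ Ideal.span {b}) (left_lt_sup.2 fun hle => hb (hle (Ideal.mem_span_singleton_self b)))
      refine ⟨f₁ * f₂, ‹p.IsPrime›.mul_notMem hf₁ hf₂, fun q _ hfq hle => ?_⟩
      haveI : (q.comap (algebraMap R₀ R)).IsPrime := Ideal.IsPrime.comap _
      rcases Ideal.IsPrime.mem_or_mem ‹(q.comap (algebraMap R₀ R)).IsPrime› (hle hab) with ha' | hb'
      · exact h₁ q (fun hh => hfq (q.mul_mem_right _ hh)) (sup_le hle ((Ideal.span_singleton_le_iff_mem (I := q.comap (algebraMap R₀ R))).2 ha'))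
      · exact h₂ q (fun hh => hfq (q.mul_mem_left _ hh)) (sup_le hle ((Ideal.span_singleton_le_iff_mem (I := q.comap (algebraMap R₀ R))).2 hb'))

end Groth.Agent.SpreadInj
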